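import Cfsg.Agent.Spor.J3M.C0
import Cfsg.Agent.Spor.J3a.Grp
import Cfsg.Agent.Spor.J3i.S.Main
import Cfsg.Agent.Spor.MatQ2
import Cfsg.Prelude.Def_Spor_J3

set_option autoImplicit false
set_option maxRecDepth 100000000
set_option Elab.async false

namespace Cfsg.Agent.Spor.J3M

theorem rels : AllP (fun w => A.isS TT w = true) (Ctx.sqRL 1 J3a.RL) :=
  show AllP (fun w => A.isS TT w = true) [[0, 0], [2, 5, 3, 3, 5, 2, 2, 4, 3, 3, 4, 2], [3, 4, 4, 4, 2], [3, 5, 2, 5, 3, 4, 2, 4], [2, 5, 3, 5, 2, 4, 3, 4], [4, 4, 4], [2, 4, 4, 4, 3], [2, 0, 2, 0], [3, 5, 2, 2, 4, 3, 0, 4, 0, 4, 0, 4, 0], [2, 4, 3, 0, 4, 2, 5, 0, 5, 3, 4, 0], [4, 3, 6, 6, 6, 4, 2], [6, 4, 6, 6, 3, 4, 2], [4, 3, 4, 6, 6, 6, 2], [6, 0, 7, 5, 6, 0, 7, 4], [6, 3, 7, 4, 6, 2, 7, 4], [5, 6, 0, 6, 5, 7, 5, 0, 7], [4, 6, 3, 3, 7, 2, 6, 2], [7, 0, 7, 0, 7, 0, 7, 0], [0, 3, 3, 3, 3, 7, 0, 7, 7, 0, 7, 7, 0, 7, 7, 0, 7], [5, 0, 4, 6, 0, 3, 7,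 0, 6, 2, 0, 7, 5, 0, 6, 2, 0, 7]] from AllP.cons r1 (AllP.cons r2 (AllP.cons r3 (AllP.cons r4 (AllP.cons r5 (AllP.cons r6 (AllP.cons r7 (AllP.cons r8 (AllP.cons r9 (AllP.cons r10 (AllP.cons r11 (AllP.cons r12 (AllP.cons r13 (AllP.cons r14 (AllP.cons r15 (AllP.cons r16 (AllP.cons r17 (AllP.cons r18 (AllP.cons r19 (AllP.cons r20 (AllP.nil))))))))))))))))))))

open Cfsg.Spor Matrix

theorem coatomI : IsCoatom (wsub 4 J3a.p J3i.BW) ∧ (wsub 4 J3a.p J3i.BW).index = 43605 := by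
  obtain ⟨φ, hφ, h⟩ := J3i.cert.act' J3a.presP (gsub_lift 4 _)
    (J3a.bound.exists_hom (by norm_num) J3a.cert.pres J3i.cert.pres J3a.lbP)
  exact ⟨h.coatom (by norm_num) ((wsub_map hφ _).trans J3i.S.eH)
    ((range_eq_gsub hφ (gsub_lift 4 _)).trans J3i.S.eG) J3i.S.hX J3i.S.hXc J3i.S.hY, h.index⟩

section
variable {F : Type} [Field F] [Fintype F] (hF : Fintype.card F = 4) {ι : Type} [Fintype ι]
  [DecidableEq ι] {X : Ctx A F ι} (hω : X.ω ^ 2 + X.ω + 1 = 0) {G : Type} [Group G]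
  {ρ : G →* Matrix ι ι F} (hρ : Function.Injective ρ) {f : ℕ → G} (ht : gsub 4 f = ⊤)
  (hc : X.CodA (fun y => ρ (atm 4 f y)) TT)
include hF hω hρ ht hc

theorem quot : Nat.card (scal ρ) = 3 ∧ Subgroup.center G = scal ρ ∧ ∃ ψ : G →* J3a.P,
    Function.Surjective ψ ∧ ψ.ker = scal ρ ∧ ∀ j < 4, ψ (f j) = J3a.p j := by
  have : Nonempty ι := ⟨X.e.symm ⟨0, by decide⟩⟩
  have := scal_normal hρ
  have h1 := (Ctx.map_ev ρ _ _).trans (hc.eqS hz)
  refine ⟨card_eq_of_prime Nat.prime_three ?_ (mem_scal h1) fun e => ?_,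
    exists_quot J3a.bound (by norm_num) ht (scal_le_center hρ) (hc.presS rels) J3a.cert.pres J3a.lbP
      J3a.simpleP (x := 0) (y := 2) (by decide) (hc.ne_one ne)⟩
  · have := card_scal_dvd hρ
    rwa [Nat.card_units, Nat.card_eq_fintype_card (α := F), hF] at this
  · rw [e, map_one, Ctx.decR_two rfl, show dig A.B 128 0 = 0 by decide +kernel,
      show dig A.B 128 1 = 1 by decide +kernel] at h1
    have h2 := congrFun (congrFun h1 (X.e.symm ⟨0, by decide⟩)) (X.e.symm ⟨0, by decide⟩)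
    have h3 : ((2 : ℕ) : F) = 0 := cast_eq_zero_of_card (k := 2) hF
    simp only [one_apply_eq, Nat.cast_zero, Nat.cast_one, one_mul, zero_add, Matrix.smul_apply,
      smul_eq_mul,
      mul_one] at h2
    rw [← h2] at hω
    push_cast at h3
    exact one_ne_zero (α := F) (by linear_combination hω - h3)

theorem main : Nat.card (Subgroup.center G) = 3 ∧ Nat.card G = 150698880 ∧
    IsSimpleGroup (G ⧸ Subgroup.center G) ∧ Nat.card (G ⧸ Subgroup.center G) = 50232960 := by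
  obtain ⟨h1, h2, ψ, h3, h4, -⟩ := quot hF hω hρ ht hc
  obtain ⟨e⟩ := quot_center_equiv h3 (h2.trans h4.symm)
  exact ⟨h2 ▸ h1, by rw [card_of_quot h3, h4, h1, J3a.cardP],
    simple_card_congr e ⟨J3a.simpleP, J3a.cardP⟩⟩

theorem lines : (lineSt ρ (X.dec 1)).index = 23256 ∧ ∀ T : Set (ι → F), T.ncard = 130815 →
    X.dec 19342813113838464841809920 ≠ 0 → (∀ g, ρ g *ᵥ X.dec 19342813113838464841809920 ∈ T) → ∀ w ∈ T, ∃ g, ρ g *ᵥ X.dec 19342813113838464841809920 = w := by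
  obtain ⟨h1, h2, ψ, h3, h4, h5⟩ := quot hF hω hρ ht hc
  have h0 : X.ω ≠ 0 := fun e => by simp [e] at hω
  have hG := (main hF hω hρ ht hc).2.1
  have : Finite G := Nat.finite_of_card_ne_zero (by rw [hG]; norm_num)
  refine ⟨?_, fun T hT hv hs => orbit_fill hρ hv h4 (eq_comap_of_coatom h3 h5 coatomI.1
    (h4 ▸ scal_le_lineSt _) (hc.le_lineSt h0 l1) (hc.lineSt_ne_top l1n)) (Set.toFinite _) hs ?_⟩
  · rw [eq_comap_of_coatom h3 h5 J3a.coatomP (h4 ▸ scal_le_lineSt _) (hc.le_lineSt h0 l0)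
      (hc.lineSt_ne_top l0n), Subgroup.index_comap_of_surjective _ h3]
    exact J3a.cert.self.index
  · rw [hT, hG, card_of_index (M := 1152) (J3a.cardP.trans (by norm_num)) coatomI.2 (by norm_num)]

end

def e : F9 ≃ Fin 9 := finProdFinEquiv (m := 3) (n := 3)

def cA (Z w z : F9) : Option ℕ := if w = z then some (Z.1 * w.1 + Z.2 * w.2).val else none
def cE (Z w z : F9) : Option ℕ := if w = z then some ((Z.1 - w.1) ^ 2 + (Z.2 - w.2) ^ 2).val else none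
def cD (Z w z : F9) : Option ℕ :=
  if w = z + Z then (if z = 0 then some 0 else if F9.div Z z = F9.I - F9.one then some 1
    else if F9.div Z z = -F9.I - F9.one then some 2 else some 0) else none
def cB (Z w z : F9) : Option ℕ := if w = F9.mul Z z then some 0 else none
def cC (Z w z : F9) : Option ℕ :=
  if z = 0 then (if w = 0 then some 0 else none)
  else if w = -F9.div Z z ∨ w = F9.mul F9.I (F9.div Z z) ∨ w = -F9.mul F9.I (F9.div Z z) then some 0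
  else none

def entOk (T : List ℕ) (c : F9 → F9 → Option ℕ) : Prop :=
  ∀ r s, (dig A.B (A.mat T (e r) (e s)) 0 : ℤ) % A.p = optA (c r s) % A.p ∧
    (dig A.B (A.mat T (e r) (e s)) 1 : ℤ) % A.p = optB (c r s) % A.p

noncomputable instance instDecEntOk (T : List ℕ) (c : F9 → F9 → Option ℕ) : Decidable (entOk T c) := by
  unfold entOk; infer_instance

theorem ent : ∀ Z : F9, entOk (nth [] AT (e Z)) (cA Z) ∧ entOk (nth [] AT (9 + e Z)) (cE Z) ∧
    entOk (nth [] AT (18 + e Z)) (cD Z) ∧ (Z ≠ 0 → entOk (nth [] AT (27 + e Z)) (cB Z) ∧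
      entOk (nth [] AT (36 + e Z)) (cC Z)) := by
  decide +kernel

section
variable {F : Type} [Field F] [Fintype F] (hF : Fintype.card F = 4) {ω : F} (hω : ω ^ 2 + ω + 1 = 0)

noncomputable def X : Ctx A F F9 :=
  Ctx.f4 A e (cast_eq_zero_of_card (k := 2) hF) ω hω (by decide +kernel)

theorem eA (Z : F9) : j3A F ω Z = (X hF hω).mk' (nth [] AT (e Z)) :=
  Ctx.eq_mk'_opt rfl hω (cA Z) (fun r s => by
    unfold j3A cA; rw [diagonal_apply]; split_ifs <;> rfl) (ent Z).1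
theorem eE (Z : F9) : j3E F ω Z = (X hF hω).mk' (nth [] AT (9 + e Z)) :=
  Ctx.eq_mk'_opt rfl hω (cE Z) (fun r s => by
    unfold j3E cE; rw [diagonal_apply]; split_ifs <;> rfl) (ent Z).2.1
theorem eD (Z : F9) : j3D F ω Z = (X hF hω).mk' (nth [] AT (18 + e Z)) :=
  Ctx.eq_mk'_opt rfl hω (cD Z) (fun r s => by
    unfold j3D cD j3Lam; rw [of_apply]; split_ifs <;> simp [optPow, X, Ctx.f4, Ctx.two]) (ent Z).2.2.1
theorem eB {Z : F9} (h : Z ≠ 0) : j3B F Z = (X hF hω).mk' (nth [] AT (27 + e Z)) :=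
  Ctx.eq_mk'_opt rfl hω (cB Z) (fun r s => by
    unfold j3B cB; rw [of_apply]; split_ifs <;> simp [optPow]) ((ent Z).2.2.2 h).1
theorem eC {Z : F9} (h : Z ≠ 0) : j3C F Z = (X hF hω).mk' (nth [] AT (36 + e Z)) :=
  Ctx.eq_mk'_opt rfl hω (cC Z) (fun r s => by
    unfold j3C cC; rw [of_apply]; split_ifs <;> simp [optPow]) ((ent Z).2.2.2 h).2

noncomputable def f : ℕ → GL F9 F := (X hF hω).gen (Units.coeHom _) TT

theorem hc : (X hF hω).CodA (fun y => Units.coeHom _ (atm 4 (f hF hω) y)) TT :=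
  Ctx.codA_gen gensOk (Ctx.exists_GL gensOk)

theorem eq3 : threeJ3 F ω = gsub 4 (f hF hω) := by
  have h : ∀ j < 45, ∀ g : GL F9 F, (g : Matrix F9 F9 F) = (X hF hω).mk' (nth [] AT j) →
      g ∈ gsub 4 (f hF hω) := fun j hj g hg =>
    (hc hF hω).mem_of_eqT Units.val_injective ((allN_iff _ _).mp wa j hj) hg
  refine le_antisymm ((Subgroup.closure_le _).mpr ?_) (gsub_le fun j hj => Subgroup.subset_closure ?_)
  · rintro g ((((⟨Z, hZ⟩ | ⟨Z, hZ⟩) | ⟨Z, hZ⟩) | ⟨Z, h0, hZ⟩) | ⟨Z, h0, hZ⟩) <;>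
      have := (e Z).2
    · exact h _ (by omega) g (hZ.symm.trans (eA hF hω Z))
    · exact h _ (by omega) g (hZ.symm.trans (eE hF hω Z))
    · exact h _ (by omega) g (hZ.symm.trans (eD hF hω Z))
    · exact h _ (by omega) g (hZ.trans (eB hF hω h0))
    · exact h _ (by omega) g (hZ.trans (eC hF hω h0))
  · have h1 : (f hF hω j : Matrix F9 F9 F) = (X hF hω).mats TT (2 * j) :=
      Ctx.gen_spec (Ctx.exists_GL gensOk j hj)
    rw [Set.mem_setOf_eq, h1]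
    interval_cases j
    · exact Or.inr ⟨(1, 0), by decide, ((eC hF hω (by decide)).trans
        (congrArg _ (by decide +kernel))).symm⟩
    · exact Or.inl (Or.inr ⟨(1, 1), by decide, ((eB hF hω (by decide)).trans
        (congrArg _ (by decide +kernel))).symm⟩)
    · exact Or.inl (Or.inl (Or.inl (Or.inr ⟨(1, 0), (eE hF hω _).trans
        (congrArg _ (by decide +kernel))⟩)))
    · exact Or.inl (Or.inl (Or.inr ⟨(1, 0), (eD hF hω _).trans (congrArg _ (by decide +kernel))⟩))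

theorem unit (g : gsub 4 (f hF hω)) (u : F9 → F) :
    ∑ z, (((g : GL F9 F) : Matrix F9 F9 F) *ᵥ u) z ^ 3 = ∑ z, u z ^ 3 := by
  obtain ⟨σ, hσ⟩ := Class.exists_UF (q := 2) hF
  have h0 : ∀ u : F9 → F, ∑ z, u z ^ 3 = u ⬝ᵥ (σ ∘ u) := fun u => by
    simp [dotProduct, hσ.eq, pow_succ']
  have hu := uniOk
  simp only [band_eq, Bool.and_eq_true, allN_iff] at hu
  refine pres_of_gens (ρ := (Units.coeHom _).comp (gsub 4 (f hF hω)).subtype) (gsub_lift 4 _)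
    (Q := fun u => ∑ z, u z ^ 3) (fun j hj u => ?_) g u
  rw [h0, h0, MonoidHom.comp_apply, lift_gsub _ j hj]
  refine herm_pres' ?_ u
  have := Ctx.mats_inv (X := X hF hω) gensOk hj
  rw [Ctx.mats, Ctx.mats, Ctx.mk'_ctT rfl σ ((hσ.eq _).trans (X hF hω).hw) hu.1 (hu.2 j hj)] at this
  rw [f, Ctx.gen_spec (Ctx.exists_GL gensOk j hj)]
  exact this

end

end Cfsg.Agent.Spor.J3M
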