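import Cfsg.Agent.Spor.J3M.D

set_option autoImplicit false
set_option maxRecDepth 100000000
set_option Elab.async false

namespace Cfsg.Agent.Spor.J3M

theorem gensOk : A.gensOk TT 4 = true := by decide +kernel

theorem detOk : A.detOk TT UU UW 4 = true := by decide +kernel

theorem uniOk : band (digOk A.p A.B 2 129) (allN (fun j => A.ctT 129 (nth A.idT TT (2 * j)) (nth A.idT TT (2 * j + 1))) 4) = true := by decide +kernel

theorem r1 : A.isS TT [0, 0] = true := by decide +kernel

theorem r2 : A.isS TT [2, 5, 3, 3, 5, 2, 2, 4, 3, 3, 4, 2] = true := by decide +kernel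

theorem r3 : A.isS TT [3, 4, 4, 4, 2] = true := by decide +kernel

theorem r4 : A.isS TT [3, 5, 2, 5, 3, 4, 2, 4] = true := by decide +kernel

theorem r5 : A.isS TT [2, 5, 3, 5, 2, 4, 3, 4] = true := by decide +kernel

theorem r6 : A.isS TT [4, 4, 4] = true := by decide +kernel

theorem r7 : A.isS TT [2, 4, 4, 4, 3] = true := by decide +kernel

theorem r8 : A.isS TT [2, 0, 2, 0] = true := by decide +kernel

theorem r9 : A.isS TT [3, 5, 2, 2, 4, 3, 0, 4, 0, 4, 0, 4, 0] = true := by decide +kernel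

theorem r10 : A.isS TT [2, 4, 3, 0, 4, 2, 5, 0, 5, 3, 4, 0] = true := by decide +kernel

theorem r11 : A.isS TT [4, 3, 6, 6, 6, 4, 2] = true := by decide +kernel

theorem r12 : A.isS TT [6, 4, 6, 6, 3, 4, 2] = true := by decide +kernel

theorem r13 : A.isS TT [4, 3, 4, 6, 6, 6, 2] = true := by decide +kernel

theorem r14 : A.isS TT [6, 0, 7, 5, 6, 0, 7, 4] = true := by decide +kernel

theorem r15 : A.isS TT [6, 3, 7, 4, 6, 2, 7, 4] = true := by decide +kernel

theorem r16 : A.isS TT [5, 6, 0, 6, 5, 7, 5, 0, 7] = true := by decide +kernel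

theorem r17 : A.isS TT [4, 6, 3, 3, 7, 2, 6, 2] = true := by decide +kernel

theorem r18 : A.isS TT [7, 0, 7, 0, 7, 0, 7, 0] = true := by decide +kernel

theorem r19 : A.isS TT [0, 3, 3, 3, 3, 7, 0, 7, 7, 0, 7, 7, 0, 7, 7, 0, 7] = true := by decide +kernel

theorem r20 : A.isS TT [5, 0, 4, 6, 0, 3, 7, 0, 6, 2, 0, 7, 5, 0, 6, 2, 0, 7] = true := by decide +kernel

theorem ne : band (Nat.blt 1 3 || Nat.blt 3 1) (A.entW TT [0, 2, 1, 3] 1 3 1) = true := by decide +kernel

theorem wa : allN (fun j => A.eqT TT (nth [] WA j) (nth [] AT j)) 45 = true := by decide +kernel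

theorem hz : A.eqS TT [2, 5, 3, 5, 7, 7, 7] 128 = true := by decide +kernel

theorem l0 : A.lineOk TT 1 [[0], [2], [4]] [0, 0, 1] = true := by decide +kernel

theorem l0n : band (Nat.blt 3 A.n) (band (Nat.beq (A.ent 1 3) 0) (Nat.beq (A.ent (A.nrm (A.appW TT [6] 1)) 3) 1)) = true := by decide +kernel

theorem l1 : A.lineOk TT 19342813113838464841809920 [[0], [7, 4, 6], [6, 6, 6], [3, 3, 3, 3], [3, 3, 6, 0, 6, 2, 2]] [0, 1, 0, 0, 0] = true := by decide +kernel

theorem l1n : band (Nat.blt 4 A.n) (band (Nat.beq (A.ent 19342813113838464841809920 4) 0) (Nat.beq (A.ent (A.nrm (A.appW TT [2] 19342813113838464841809920)) 4) 1)) = true := by decide +kernel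

end Cfsg.Agent.Spor.J3M
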